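import Groth.Agent.GeomRedFlat5.Fibres
import Mathlib

/-!
# All fibres of a flat local homomorphism are geometrically pointwise integral when the closed one is
-/

set_option autoImplicit false
set_option linter.style.haveILetI false

universe u

open IsLocalRing TensorProduct Groth.Agent.GeomRedFlat5

namespace Groth.Agent.GeomPtInt

/-- The localization at the prime is a domain, in terms of elements. -/
def DomAt {R : Type u} [CommRing R] (P : Ideal R) : Prop :=
  ∀ a b : R, a * b = 0 → ∃ w ∉ P, w * a = 0 ∨ w * b = 0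

theorem DomAt.mono {R : Type u} [CommRing R] {P Q : Ideal R} (h : DomAt Q) (hPQ : P ≤ Q) : DomAt P := fun a b hab => by
  obtain ⟨w, hw, h'⟩ := h a b hab
  exact ⟨w, fun hm => hw (hPQ hm), h'⟩

theorem domAt_iff_isDomain {R : Type u} [CommRing R] (P : Ideal R) [P.IsPrime] :
    DomAt P ↔ IsDomain (Localization.AtPrime P) := by
  constructor
  · intro h
    haveI : NoZeroDivisors (Localization.AtPrime P) := ⟨fun {x y} hxy => by
      obtain ⟨a, s, rfl⟩ := IsLocalization.exists_mk'_eq P.primeCompl x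
      obtain ⟨b, t, rfl⟩ := IsLocalization.exists_mk'_eq P.primeCompl y
      rw [← IsLocalization.mk'_mul, IsLocalization.mk'_eq_zero_iff] at hxy
      obtain ⟨⟨v, hv⟩, hv0⟩ := hxy
      obtain ⟨w, hw, hw' | hw'⟩ := h (v * a) b (by rw [mul_assoc]; exact hv0)
      · exact Or.inl ((IsLocalization.mk'_eq_zero_iff _ _).2
          ⟨⟨w * v, P.primeCompl.mul_mem hw hv⟩, by rw [mul_assoc]; exact hw'⟩)
      · exact Or.inr ((IsLocalization.mk'_eq_zero_iff _ _).2 ⟨⟨w, hw⟩, hw'⟩)⟩
    exact NoZeroDivisors.to_isDomain _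
  · intro h a b hab
    have h1 := congrArg (algebraMap R (Localization.AtPrime P)) hab
    rw [map_mul, map_zero, mul_eq_zero] at h1
    rcases h1 with h1 | h1 <;> obtain ⟨⟨w, hw⟩, hw0⟩ := (IsLocalization.map_eq_zero_iff P.primeCompl _ _).1 h1
    · exact ⟨w, hw, Or.inl hw0⟩
    · exact ⟨w, hw, Or.inr hw0⟩

/-- Flat over a discrete valuation ring and integral special fibre at a point: integral at the point. -/
theorem domAt_of_special {V W : Type u} [CommRing V] [IsDomain V] [IsDiscreteValuationRing V]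
    [CommRing W] [IsNoetherianRing W] [Algebra V W] [Module.Flat V W]
    (M : Ideal W) [M.IsPrime] (hM : (maximalIdeal V).map (algebraMap V W) ≤ M)
    (hdom : ∀ a b : W, a * b ∈ (maximalIdeal V).map (algebraMap V W) →
      ∃ w ∉ M, w * a ∈ (maximalIdeal V).map (algebraMap V W) ∨ w * b ∈ (maximalIdeal V).map (algebraMap V W)) :
    DomAt M := by
  classical
  obtain ⟨π, hπ⟩ := IsDiscreteValuationRing.exists_irreducible V
  let t := algebraMap V W π
  have hmap : (maximalIdeal V).map (algebraMap V W) = Ideal.span {t} := by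
    rw [(IsDiscreteValuationRing.irreducible_iff_uniformizer π).1 hπ, Ideal.map_span, Set.image_singleton]
  have hreg : ∀ w : W, t * w = 0 → w = 0 := fun w h => by
    have hinj : Function.Injective fun v : V => π * v := mul_right_injective₀ hπ.ne_zero
    have hf := Module.Flat.lTensor_preserves_injective_linearMap (M := W) (LinearMap.lsmul V V π)
      (fun a b hab => hinj hab)
    have h2 : (LinearMap.lsmul V V π).lTensor W (w ⊗ₜ[V] 1) = 0 := by
      rw [LinearMap.lTensor_tmul, LinearMap.lsmul_apply, TensorProduct.tmul_smul, TensorProduct.smul_tmul',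
        Algebra.smul_def, show algebraMap V W π * w = 0 from h, TensorProduct.zero_tmul]
    simpa using congrArg (TensorProduct.rid V W) (hf (h2.trans (map_zero _).symm))
  let L := Localization.AtPrime M
  haveI : IsNoetherianRing L := IsLocalization.isNoetherianRing M.primeCompl L inferInstance
  let t' := algebraMap W L t
  have hregL : ∀ r : L, t' * r = 0 → r = 0 := fun r h => by
    obtain ⟨a, s, rfl⟩ := IsLocalization.exists_mk'_eq M.primeCompl r
    rw [IsLocalization.mul_mk'_eq_mk'_of_mul, IsLocalization.mk'_eq_zero_iff] at h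
    obtain ⟨v, hv⟩ := h
    exact (IsLocalization.mk'_eq_zero_iff _ _).2 ⟨v, hreg _ (by rw [mul_left_comm]; exact hv)⟩
  have hI : (Ideal.span {t}).map (algebraMap W L) = Ideal.span {t'} := by
    rw [Ideal.map_span, Set.image_singleton]
  have ht' : Ideal.span {t'} ≠ ⊤ := fun h => by
    have h1 : t' ∈ maximalIdeal L := by
      have h2 : t ∈ M := hM (hmap ▸ Ideal.mem_span_singleton_self t)
      have h3 := Ideal.mem_map_of_mem (algebraMap W L) h2
      rwa [Localization.AtPrime.map_eq_maximalIdeal] at h3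
    exact (maximalIdeal.isMaximal L).ne_top (top_unique (h ▸ (Ideal.span_singleton_le_iff_mem _).2 h1))
  have hprime : ∀ a b : L, a * b ∈ Ideal.span {t'} → a ∈ Ideal.span {t'} ∨ b ∈ Ideal.span {t'} := by
    intro x y hxy
    obtain ⟨a, s, rfl⟩ := IsLocalization.exists_mk'_eq M.primeCompl x
    obtain ⟨b, r, rfl⟩ := IsLocalization.exists_mk'_eq M.primeCompl y
    rw [← hI] at hxy ⊢
    simp only [IsLocalization.mk'_mem_map_algebraMap_iff, ← IsLocalization.mk'_mul] at hxy ⊢
    obtain ⟨v, hv, hvab⟩ := hxy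
    obtain ⟨w, hw, hw' | hw'⟩ := hdom (v * a) b (by rw [hmap, mul_assoc]; exact hvab) <;> rw [hmap] at hw'
    · exact Or.inl ⟨w * v, M.primeCompl.mul_mem hw hv, by rwa [mul_assoc]⟩
    · exact Or.inr ⟨w, hw, hw'⟩
  have hfac : ∀ x : L, x ≠ 0 → ∃ (i : ℕ) (x' : L), x' ∉ Ideal.span {t'} ∧ x = t' ^ i * x' := by
    intro x hx
    have hex : ∃ n : ℕ, x ∉ Ideal.span {t'} ^ n := by
      by_contra hall
      push Not at hall
      refine hx ?_
      have h1 : x ∈ ⨅ n : ℕ, Ideal.span {t'} ^ n := Submodule.mem_iInf _ |>.2 hall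
      rwa [Ideal.iInf_pow_eq_bot_of_isLocalRing _ ht'] at h1
    have hn0 : Nat.find hex ≠ 0 := fun h0 => by
      have := Nat.find_spec hex
      rw [h0, pow_zero, Ideal.one_eq_top] at this
      exact this trivial
    obtain ⟨i, hi⟩ := Nat.exists_eq_succ_of_ne_zero hn0
    have hmem : x ∈ Ideal.span {t'} ^ i := not_not.1 (Nat.find_min hex (by omega))
    rw [Ideal.span_singleton_pow, Ideal.mem_span_singleton'] at hmem
    obtain ⟨x', hx'⟩ := hmem
    refine ⟨i, x', fun h => ?_, by rw [← hx', mul_comm]⟩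
    obtain ⟨x'', hx''⟩ := Ideal.mem_span_singleton'.1 h
    refine (hi ▸ Nat.find_spec hex) ?_
    rw [Ideal.span_singleton_pow, Ideal.mem_span_singleton']
    exact ⟨x'', by rw [pow_succ, mul_comm (t' ^ i), ← mul_assoc, hx'', hx']⟩
  haveI : NoZeroDivisors L := ⟨fun {x y} hxy => by
    by_contra hcon
    push Not at hcon
    obtain ⟨i, x', hx', rfl⟩ := hfac x hcon.1
    obtain ⟨j, y', hy', rfl⟩ := hfac y hcon.2
    have h0 : t' ^ (i + j) * (x' * y') = 0 := by rw [← hxy]; ring
    have h1 : x' * y' = 0 := by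
      generalize i + j = n at h0
      induction n with
      | zero => simpa using h0
      | succ n ih => exact ih (hregL _ (by rw [← h0]; ring))
    exact (hprime x' y' (h1 ▸ Submodule.zero_mem _)).elim hx' hy'⟩
  exact (domAt_iff_isDomain M).2 (NoZeroDivisors.to_isDomain L)

section

variable (A S : Type u) [CommRing A] [IsLocalRing A] [CommRing S] [IsLocalRing S] [Algebra A S]

/-- The closed fibre is geometrically integral at the closed point. -/
def ClosedDom : Prop :=
  ∀ (K : Type u) [Field K] [Algebra A K], (∀ a ∈ maximalIdeal A, algebraMap A K a = 0) →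
    ∀ Q : Ideal (K ⊗[A] S), Q.IsPrime →
      Q.comap (Algebra.TensorProduct.includeRight : S →ₐ[A] K ⊗[A] S).toRingHom = maximalIdeal S → DomAt Q

variable {A S} [IsNoetherianRing A] [IsLocalHom (algebraMap A S)] [Algebra.EssFiniteType A S] [Module.Flat A S]

/-- The generic fibres are pointwise integral after finite extensions. -/
theorem domAt_tensor_of_closed_fibre (hk : ClosedDom A S)
    (K : Type u) [Field K] [Algebra A K] (Z : Finset K) (hZ : ∀ z ∈ Z, IsIntegral A z)
    (hgen : ∀ x : K, ∃ a ∈ Algebra.adjoin A (Z : Set K), ∃ b ∈ Algebra.adjoin A (Z : Set K), b ≠ 0 ∧ a / b = x)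
    (w₀ : Ideal (K ⊗[A] S)) [w₀.IsPrime] : DomAt w₀ := by
  classical
  obtain ⟨w, hw, hw₀⟩ := Ideal.exists_le_maximal w₀ (Ideal.IsPrime.ne_top inferInstance)
  refine DomAt.mono ?_ hw₀
  by_cases hm : ∀ a ∈ maximalIdeal A, algebraMap A K a = 0
  · letI : Algebra (ResidueField A) K :=
      (Ideal.Quotient.lift (maximalIdeal A) (algebraMap A K) hm : ResidueField A →+* K).toAlgebra
    haveI : IsScalarTower A (ResidueField A) K := IsScalarTower.of_algebraMap_eq fun _ => rfl
    haveI : Algebra.IsIntegral A (ResidueField A) :=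
      ⟨fun y => by
        obtain ⟨a, rfl⟩ := IsLocalRing.residue_surjective y
        exact isIntegral_algebraMap⟩
    have hintK : ∀ k : K, IsIntegral A k := fun k => by
      obtain ⟨a, ha, b, hb, hb0, rfl⟩ := hgen k
      have hle : Algebra.adjoin A (Z : Set K) ≤ integralClosure A K := Algebra.adjoin_le fun z hz => hZ z hz
      rw [div_eq_mul_inv]
      refine (hle ha).mul (isIntegral_trans (A := ResidueField A) _ ?_)
      exact (IsAlgebraic.inv ((hle hb).tower_top (A := ResidueField A)).isAlgebraic).isIntegral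
    haveI : Algebra.IsIntegral S (S ⊗[A] K) := ⟨fun r => by
      induction r using TensorProduct.induction_on with
      | zero => exact isIntegral_zero
      | add a b ha hb => exact ha.add hb
      | tmul s k =>
        rw [show s ⊗ₜ[A] k = algebraMap S (S ⊗[A] K) s * ((1 : S) ⊗ₜ[A] k) by
          rw [Algebra.TensorProduct.algebraMap_apply, Algebra.TensorProduct.tmul_mul_tmul, mul_one, one_mul]; rfl]
        exact isIntegral_algebraMap.mul
          ((hintK k).map (Algebra.TensorProduct.includeRight : K →ₐ[A] S ⊗[A] K)).tower_top⟩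
    refine hk K hm w hw.isPrime ?_
    let c := (Algebra.TensorProduct.comm A S K).toRingEquiv
    haveI : (w.comap c.toRingHom).IsMaximal := Ideal.comap_isMaximal_of_surjective _ c.surjective
    have h1 := IsLocalRing.eq_maximalIdeal
      (Ideal.isMaximal_comap_of_isIntegral_of_isMaximal (R := S) (w.comap c.toRingHom))
    rw [← h1]
    rfl
  push Not at hm
  obtain ⟨a₀, ha₀, ha₀K⟩ := hm
  -- the residue field at the point
  let L := (K ⊗[A] S) ⧸ w
  letI : Field L := Ideal.Quotient.field w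
  let χ : K ⊗[A] S →ₐ[A] L := Ideal.Quotient.mkₐ A w
  let χK : K →ₐ[A] L := χ.comp Algebra.TensorProduct.includeLeft
  let χS : S →ₐ[A] L := χ.comp Algebra.TensorProduct.includeRight
  letI : Algebra S L := χS.toRingHom.toAlgebra
  haveI : IsScalarTower A S L := IsScalarTower.of_algebraMap_eq fun a => (χS.commutes a).symm
  let D : Subalgebra S L := Algebra.adjoin S ((Z.image χK : Finset L) : Set L)
  have hint : ∀ l ∈ ((Z.image χK : Finset L) : Set L), IsIntegral S l := by
    intro l hl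
    obtain ⟨z', hz', rfl⟩ := Finset.mem_image.1 (Finset.mem_coe.1 hl)
    exact ((hZ z' hz').map χK).tower_top
  haveI hDfin : Module.Finite S D := Module.Finite.iff_fg.2 (fg_adjoin_of_finite (Finset.finite_toSet _) hint)
  haveI : IsNoetherianRing S := Algebra.EssFiniteType.isNoetherianRing A S
  haveI : IsNoetherianRing D := isNoetherian_of_tower S (inferInstance : IsNoetherian S D)
  haveI : Algebra.IsIntegral S D := inferInstance
  have hadj : ∀ a ∈ Algebra.adjoin A (Z : Set K), χK a ∈ D := by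
    intro a ha
    induction ha using Algebra.adjoin_induction with
    | mem a ha => exact Algebra.subset_adjoin (Finset.mem_image_of_mem _ ha)
    | algebraMap r =>
      rw [AlgHom.commutes, IsScalarTower.algebraMap_apply A S L]
      exact D.algebraMap_mem _
    | add a b _ _ ha hb => rw [map_add]; exact add_mem ha hb
    | mul a b _ _ ha hb => rw [map_mul]; exact mul_mem ha hb
  haveI : IsFractionRing D L := by
    refine IsFractionRing.of_field D L fun l => ?_
    suffices ∃ x y : D, (y : L) ≠ 0 ∧ l * (y : L) = (x : L) by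
      obtain ⟨x, y, hy, hxy⟩ := this
      exact ⟨x, y, (div_eq_of_eq_mul hy hxy.symm).symm⟩
    obtain ⟨r, rfl⟩ := Ideal.Quotient.mk_surjective l
    induction r using TensorProduct.induction_on with
    | zero => exact ⟨0, 1, one_ne_zero, by simp⟩
    | tmul k s =>
      obtain ⟨a, ha, b, hb, hb0, rfl⟩ := hgen k
      refine ⟨⟨χK a, hadj a ha⟩ * algebraMap S D s, ⟨χK b, hadj b hb⟩, ?_, ?_⟩
      · exact (map_ne_zero χK.toRingHom).2 hb0
      · show χ ((a / b) ⊗ₜ s) * χ (b ⊗ₜ 1) = χ (a ⊗ₜ 1) * χ ((1 : K) ⊗ₜ s)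
        rw [← map_mul, ← map_mul, Algebra.TensorProduct.tmul_mul_tmul, Algebra.TensorProduct.tmul_mul_tmul,
          div_mul_cancel₀ _ hb0, mul_one, mul_one, one_mul]
    | add r₁ r₂ h₁ h₂ =>
      obtain ⟨x₁, y₁, hy₁, hr₁⟩ := h₁
      obtain ⟨x₂, y₂, hy₂, hr₂⟩ := h₂
      refine ⟨x₁ * y₂ + x₂ * y₁, y₁ * y₂, mul_ne_zero hy₁ hy₂, ?_⟩
      show Ideal.Quotient.mk w (r₁ + r₂) * ((y₁ : L) * y₂) = (x₁ : L) * y₂ + (x₂ : L) * y₁
      rw [map_add, ← hr₁, ← hr₂]; ring
  obtain ⟨n, hn⟩ := Ideal.exists_maximal D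
  have hnS : n.comap (algebraMap S D) = maximalIdeal S :=
    IsLocalRing.eq_maximalIdeal (Ideal.isMaximal_comap_of_isIntegral_of_isMaximal n)
  have hA_n : ∀ a ∈ maximalIdeal A, algebraMap S D (algebraMap A S a) ∈ n := fun a ha =>
    Ideal.mem_comap.1 (hnS.symm ▸ map_nonunit (algebraMap A S) a ha)
  have hn0 : n ≠ ⊥ := fun h => by
    have h1 := hA_n a₀ ha₀
    rw [h, Ideal.mem_bot] at h1
    have h2 : algebraMap A L a₀ = 0 := by
      rw [IsScalarTower.algebraMap_apply A S L]
      exact congrArg (fun d : D => (d : L)) h1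
    rw [← χK.commutes] at h2
    exact ha₀K ((map_eq_zero χK.toRingHom).1 h2)
  haveI := hn.isPrime
  obtain ⟨V₀, hV₀, hV₀n⟩ := Rat20Lib.exists_dvr_centre (K := L) n hn0
  have hAV₀ : ∀ a : A, algebraMap A L a ∈ V₀ := fun a => by
    rw [IsScalarTower.algebraMap_apply A S L]
    exact (hV₀n (algebraMap S D (algebraMap A S a))).1
  have hAnu : ∀ a ∈ maximalIdeal A, (⟨algebraMap A L a, hAV₀ a⟩ : V₀) ∈ maximalIdeal V₀ := fun a ha => by
    rw [← ValuationSubring.coe_mem_nonunits_iff, show ((⟨algebraMap A L a, hAV₀ a⟩ : V₀) : L) =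
      algebraMap D L (algebraMap S D (algebraMap A S a)) from IsScalarTower.algebraMap_apply A S L a]
    exact (hV₀n _).2.2 (hA_n a ha)
  let V := V₀.comap χK.toRingHom
  have hAV : ∀ a : A, algebraMap A K a ∈ V := fun a => by
    show χK (algebraMap A K a) ∈ V₀
    rw [χK.commutes]; exact hAV₀ a
  letI : Algebra A V := ((algebraMap A K).codRestrict V hAV).toAlgebra
  haveI : IsScalarTower A V K := IsScalarTower.of_algebraMap_eq fun _ => rfl
  haveI : IsDiscreteValuationRing V := isDiscreteValuationRing_comap χK.toRingHom V₀ (c := algebraMap A K a₀)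
    (hAV a₀) (by
      have h := hAnu a₀ ha₀
      have e : (⟨χK.toRingHom (algebraMap A K a₀), hAV a₀⟩ : V₀) = ⟨algebraMap A L a₀, hAV₀ a₀⟩ :=
        Subtype.ext (χK.commutes a₀)
      rw [e]; exact h) ha₀K
  let toV₀ : V →ₐ[A] L := χK.comp (IsScalarTower.toAlgHom A V K)
  let ψL : V ⊗[A] S →ₐ[A] L := Algebra.TensorProduct.lift toV₀ χS (fun _ _ => Commute.all _ _)
  have hψmem : ∀ y, ψL y ∈ V₀ := by
    intro y
    induction y using TensorProduct.induction_on with
    | zero => rw [map_zero]; exact V₀.zero_mem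
    | tmul v s =>
      rw [Algebra.TensorProduct.lift_tmul]
      exact V₀.mul_mem _ _ v.2 (hV₀n (algebraMap S D s)).1
    | add a b ha hb => rw [map_add]; exact V₀.add_mem _ _ ha hb
  let ψ : V ⊗[A] S →+* V₀ := ψL.toRingHom.codRestrict V₀ hψmem
  let M : Ideal (V ⊗[A] S) := (maximalIdeal V₀).comap ψ
  haveI : M.IsPrime := Ideal.IsPrime.comap _
  let Φ : V ⊗[A] S →ₐ[A] K ⊗[A] S :=
    Algebra.TensorProduct.map (IsScalarTower.toAlgHom A V K) (AlgHom.id A S)
  have hΦinj : Function.Injective Φ :=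
    Module.Flat.rTensor_preserves_injective_linearMap (M := S) (IsScalarTower.toAlgHom A V K).toLinearMap
      Subtype.val_injective
  have hχΦ : χ.comp Φ = ψL := by
    refine Algebra.TensorProduct.ext' fun v s => ?_
    show χ ((v : K) ⊗ₜ s) = ψL (v ⊗ₜ s)
    rw [Algebra.TensorProduct.lift_tmul]
    show _ = χ ((v : K) ⊗ₜ[A] (1 : S)) * χ ((1 : K) ⊗ₜ[A] s)
    rw [← map_mul, Algebra.TensorProduct.tmul_mul_tmul, mul_one, one_mul]
  have hvloc : ∀ a ∈ maximalIdeal A, algebraMap A V a ∈ maximalIdeal V := fun a ha =>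
    (mem_maximalIdeal_of_comap χK.toRingHom V₀ (algebraMap A V a) ⟨algebraMap A L a, hAV₀ a⟩
      (χK.commutes a).symm).2 (hAnu a ha)
  have hMle : (maximalIdeal V).map (algebraMap V (V ⊗[A] S)) ≤ M := by
    rw [Ideal.map_le_iff_le_comap]
    intro v hv
    refine (mem_maximalIdeal_of_comap χK.toRingHom V₀ v (ψ (v ⊗ₜ 1)) ?_).1 hv
    show ψL (v ⊗ₜ 1) = χK (v : K)
    rw [Algebra.TensorProduct.lift_tmul, map_one, mul_one]
    rfl
  have hMS : M.comap (Algebra.TensorProduct.includeRight : S →ₐ[A] V ⊗[A] S).toRingHom = maximalIdeal S := by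
    refine ((maximalIdeal.isMaximal S).eq_of_le (Ideal.IsPrime.ne_top inferInstance) fun s hs => ?_).symm
    show ψ ((1 : V) ⊗ₜ s) ∈ maximalIdeal V₀
    have hsn : algebraMap S D s ∈ n := Ideal.mem_comap.1 (hnS.symm ▸ hs)
    have e : ψ ((1 : V) ⊗ₜ s) = ⟨algebraMap D L (algebraMap S D s), (hV₀n _).1⟩ := Subtype.ext (by
      show ψL ((1 : V) ⊗ₜ s) = _
      rw [Algebra.TensorProduct.lift_tmul, map_one, one_mul]
      rfl)
    rw [e, ← ValuationSubring.coe_mem_nonunits_iff]
    exact (hV₀n _).2.2 hsn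
  haveI : IsNoetherianRing (V ⊗[A] S) := Algebra.EssFiniteType.isNoetherianRing V _
  -- the special fibre
  let θ := Algebra.TensorProduct.map (IsScalarTower.toAlgHom A V (ResidueField V)) (AlgHom.id A S)
  have hθ : RingHom.ker θ = (maximalIdeal V).map (algebraMap V (V ⊗[A] S)) := by
    rw [Algebra.TensorProduct.rTensor_ker _ IsLocalRing.residue_surjective]
    show Ideal.map _ (RingHom.ker (residue V)) = _
    rw [IsLocalRing.ker_residue]
    rfl
  have hθs : Function.Surjective θ.toRingHom :=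
    Algebra.TensorProduct.map_surjective _ _ IsLocalRing.residue_surjective Function.surjective_id
  have hkerM : RingHom.ker θ.toRingHom ≤ M := (le_of_eq hθ).trans hMle
  haveI : (M.map θ.toRingHom).IsPrime := Ideal.map_isPrime_of_surjective hθs hkerM
  have hQ : (M.map θ.toRingHom).comap θ.toRingHom = M := by
    rw [Ideal.comap_map_of_surjective _ hθs, ← RingHom.ker_eq_comap_bot, sup_eq_left]
    exact hkerM
  have hdomQ : DomAt (M.map θ.toRingHom) :=
    hk (ResidueField V) (fun a ha => by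
      rw [IsScalarTower.algebraMap_apply A V (ResidueField V)]
      exact (IsLocalRing.residue_eq_zero_iff _).2 (hvloc a ha)) _ inferInstance (by
      rw [← hMS]
      conv_rhs => rw [← hQ]
      rw [Ideal.comap_comap]
      congr 1)
  have hdomM : DomAt M := domAt_of_special M hMle fun a b hab => by
    rw [← hθ] at hab ⊢
    obtain ⟨v', hv', h'⟩ := hdomQ (θ a) (θ b) (by rw [← map_mul]; exact hab)
    obtain ⟨v, rfl⟩ := hθs v'
    refine ⟨v, fun hv => hv' (Ideal.mem_map_of_mem _ hv), h'.imp (fun h => ?_) (fun h => ?_)⟩ <;>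
    · rw [RingHom.mem_ker, map_mul]; exact h
  have hclear : ∀ r : K ⊗[A] S, ∃ c : K, c ≠ 0 ∧ c ∈ V ∧ ∃ y, Φ y = c ⊗ₜ 1 * r := by
    intro r
    induction r using TensorProduct.induction_on with
    | zero => exact ⟨1, one_ne_zero, V.one_mem, 0, by simp⟩
    | tmul k s =>
      by_cases hk0 : k = 0
      · exact ⟨1, one_ne_zero, V.one_mem, 0, by simp [hk0]⟩
      rcases V.mem_or_inv_mem k with h | h
      · exact ⟨1, one_ne_zero, V.one_mem, (⟨k, h⟩ : V) ⊗ₜ s, by
          rw [Algebra.TensorProduct.tmul_mul_tmul, one_mul, one_mul]; rfl⟩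
      · exact ⟨k⁻¹, inv_ne_zero hk0, h, (1 : V) ⊗ₜ s, by
          rw [Algebra.TensorProduct.tmul_mul_tmul, inv_mul_cancel₀ hk0, one_mul]; rfl⟩
    | add r₁ r₂ h₁ h₂ =>
      obtain ⟨c₁, hc₁, hc₁V, y₁, hy₁⟩ := h₁
      obtain ⟨c₂, hc₂, hc₂V, y₂, hy₂⟩ := h₂
      refine ⟨c₁ * c₂, mul_ne_zero hc₁ hc₂, V.mul_mem _ _ hc₁V hc₂V,
        (⟨c₂, hc₂V⟩ : V) ⊗ₜ 1 * y₁ + (⟨c₁, hc₁V⟩ : V) ⊗ₜ 1 * y₂, ?_⟩
      rw [map_add, map_mul, map_mul, hy₁, hy₂, show Φ ((⟨c₂, hc₂V⟩ : V) ⊗ₜ 1) = c₂ ⊗ₜ 1 from rfl,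
        show Φ ((⟨c₁, hc₁V⟩ : V) ⊗ₜ 1) = c₁ ⊗ₜ 1 from rfl,
        show (c₁ * c₂) ⊗ₜ[A] (1 : S) = c₁ ⊗ₜ 1 * c₂ ⊗ₜ 1 by rw [Algebra.TensorProduct.tmul_mul_tmul, mul_one]]
      ring
  intro a b hab
  obtain ⟨ca, hca, -, ya, hya⟩ := hclear a
  obtain ⟨cb, hcb, -, yb, hyb⟩ := hclear b
  have hyab : ya * yb = 0 := hΦinj (by rw [map_mul, hya, hyb, mul_mul_mul_comm, hab, mul_zero, map_zero])
  obtain ⟨v, hvM, hv⟩ := hdomM ya yb hyab
  refine ⟨Φ v, fun hΦv => hvM ?_, hv.imp (fun h => ?_) (fun h => ?_)⟩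
  · have h1 : ψL v = 0 := by
      rw [← hχΦ]; exact Ideal.Quotient.eq_zero_iff_mem.2 hΦv
    show ψ v ∈ maximalIdeal V₀
    rw [show ψ v = 0 from Subtype.ext h1]
    exact zero_mem _
  · have hunit : ca⁻¹ ⊗ₜ[A] (1 : S) * (ca ⊗ₜ[A] (1 : S)) = 1 := by
      rw [Algebra.TensorProduct.tmul_mul_tmul, inv_mul_cancel₀ hca, mul_one]; rfl
    rw [← one_mul (Φ v * a), ← hunit, mul_assoc, mul_left_comm _ (Φ v), ← hya, ← map_mul, h, map_zero, mul_zero]
  · have hunit : cb⁻¹ ⊗ₜ[A] (1 : S) * (cb ⊗ₜ[A] (1 : S)) = 1 := by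
      rw [Algebra.TensorProduct.tmul_mul_tmul, inv_mul_cancel₀ hcb, mul_one]; rfl
    rw [← one_mul (Φ v * b), ← hunit, mul_assoc, mul_left_comm _ (Φ v), ← hyb, ← map_mul, h, map_zero, mul_zero]

/-- Finite extensions of the residue fields. -/
theorem domAt_tensor_finite (hk : ClosedDom A S) (p : Ideal A) [p.IsPrime] (K : Type u) [Field K]
    [Algebra p.ResidueField K] [Module.Finite p.ResidueField K] [iAK : Algebra A K] [IsScalarTower A p.ResidueField K]
    (w₀ : Ideal (K ⊗[A] S)) [w₀.IsPrime] : DomAt w₀ := by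
  classical
  obtain rfl : iAK = ((algebraMap p.ResidueField K).comp (algebraMap A p.ResidueField)).toAlgebra :=
    Algebra.algebra_ext _ _ fun a => IsScalarTower.algebraMap_apply A p.ResidueField K a
  letI : Algebra A K := ((algebraMap p.ResidueField K).comp (algebraMap A p.ResidueField)).toAlgebra
  let b := Module.finBasis p.ResidueField K
  have hden : ∀ x : K, ∃ r : A, r ∉ p ∧ IsIntegral A (algebraMap A K r * x) := by
    intro x
    letI : Algebra (A ⧸ p) K := ((algebraMap p.ResidueField K).comp (algebraMap (A ⧸ p) p.ResidueField)).toAlgebra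
    have halg : IsAlgebraic (A ⧸ p) x := by
      haveI : IsScalarTower (A ⧸ p) p.ResidueField K := IsScalarTower.of_algebraMap_eq fun _ => rfl
      exact (IsFractionRing.isAlgebraic_iff (A ⧸ p) p.ResidueField K).2 (Algebra.IsAlgebraic.isAlgebraic x)
    obtain ⟨r', hr', hint⟩ := halg.exists_integral_multiple
    obtain ⟨r, rfl⟩ := Ideal.Quotient.mk_surjective r'
    refine ⟨r, fun h => hr' (Ideal.Quotient.eq_zero_iff_mem.2 h), ?_⟩
    haveI : IsScalarTower A (A ⧸ p) K := IsScalarTower.of_algebraMap_eq fun a => by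
      show algebraMap p.ResidueField K (algebraMap A p.ResidueField a) =
        algebraMap p.ResidueField K (algebraMap (A ⧸ p) p.ResidueField (Ideal.Quotient.mk p a))
      rfl
    haveI : Algebra.IsIntegral A (A ⧸ p) := ⟨fun y => (Module.Finite.of_surjective (Algebra.linearMap A (A ⧸ p))
      Ideal.Quotient.mk_surjective |> fun _ => Algebra.IsIntegral.isIntegral y)⟩
    rw [Algebra.smul_def] at hint
    exact isIntegral_trans _ hint
  choose r hr hint using hden
  have hne : ∀ a : A, a ∉ p → algebraMap A K a ≠ 0 := fun a ha h => ha (by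
    have := (map_eq_zero (algebraMap p.ResidueField K)).1 h
    exact Ideal.algebraMap_residueField_eq_zero.1 this)
  let Z : Finset K := Finset.univ.image fun i => algebraMap A K (r (b i)) * b i
  refine domAt_tensor_of_closed_fibre hk K Z (fun z hz => by
    obtain ⟨i, -, rfl⟩ := Finset.mem_image.1 hz
    exact hint (b i)) (fun x => by
    let D := Algebra.adjoin A (Z : Set K)
    let F : Set K := {x | ∃ a ∈ D, ∃ c ∈ D, c ≠ 0 ∧ a / c = x}
    have hadd : ∀ x ∈ F, ∀ y ∈ F, x + y ∈ F := by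
      rintro _ ⟨a, ha, c, hc, hc0, rfl⟩ _ ⟨a', ha', c', hc', hc0', rfl⟩
      exact ⟨a * c' + c * a', add_mem (mul_mem ha hc') (mul_mem hc ha'), c * c', mul_mem hc hc',
        mul_ne_zero hc0 hc0', (div_add_div a a' hc0 hc0').symm⟩
    have hmul : ∀ (q : p.ResidueField) (i : _), algebraMap p.ResidueField K q * b i ∈ F := by
      intro q i
      obtain ⟨a, s, hs, rfl⟩ := IsFractionRing.div_surjective (A := A ⧸ p) q
      obtain ⟨a, rfl⟩ := Ideal.Quotient.mk_surjective a
      obtain ⟨s, rfl⟩ := Ideal.Quotient.mk_surjective s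
      have hs' : s ∉ p := fun h => nonZeroDivisors.ne_zero hs (Ideal.Quotient.eq_zero_iff_mem.2 h)
      refine ⟨algebraMap A K a * (algebraMap A K (r (b i)) * b i),
        mul_mem (D.algebraMap_mem a) (Algebra.subset_adjoin (Finset.mem_image_of_mem _ (Finset.mem_univ i))),
        algebraMap A K s * algebraMap A K (r (b i)), mul_mem (D.algebraMap_mem s) (D.algebraMap_mem _),
        mul_ne_zero (hne s hs') (hne _ (hr _)), ?_⟩
      have h1 := hne s hs'
      have h2 := hne _ (hr (b i))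
      rw [map_div₀]
      show _ = algebraMap A K a / algebraMap A K s * b i
      field_simp
    show x ∈ F
    rw [← b.sum_repr x]
    refine Finset.sum_induction _ (· ∈ F) (fun u v hu hv => hadd u hu v hv)
      ⟨0, D.zero_mem, 1, D.one_mem, one_ne_zero, by simp⟩ fun i _ => ?_
    rw [Algebra.smul_def]
    exact hmul _ i) w₀

/-- Algebraic extensions of the residue fields. -/
theorem domAt_tensor_algebraic (hk : ClosedDom A S) (p : Ideal A) [p.IsPrime] (Ω : Type u) [Field Ω]
    [Algebra p.ResidueField Ω] [Algebra.IsAlgebraic p.ResidueField Ω] [Algebra A Ω] [IsScalarTower A p.ResidueField Ω]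
    (W : Ideal (Ω ⊗[A] S)) [W.IsPrime] : DomAt W := by
  classical
  have hstage : ∀ r : Ω ⊗[A] S, ∃ T : Finset Ω, ∀ K : IntermediateField p.ResidueField Ω, (T : Set Ω) ⊆ K →
      r ∈ (Algebra.TensorProduct.map ((K.val).restrictScalars A) (AlgHom.id A S)).range := by
    intro r
    induction r using TensorProduct.induction_on with
    | zero => exact ⟨∅, fun K _ => zero_mem _⟩
    | tmul k s => exact ⟨{k}, fun K hK => ⟨(⟨k, hK (by simp)⟩ : K) ⊗ₜ s, rfl⟩⟩
    | add a b ha hb =>
      obtain ⟨T₁, h₁⟩ := ha; obtain ⟨T₂, h₂⟩ := hb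
      refine ⟨T₁ ∪ T₂, fun K hK => ?_⟩
      rw [Finset.coe_union, Set.union_subset_iff] at hK
      exact add_mem (h₁ K hK.1) (h₂ K hK.2)
  intro a b hab
  obtain ⟨Ta, hTa⟩ := hstage a
  obtain ⟨Tb, hTb⟩ := hstage b
  let K := IntermediateField.adjoin p.ResidueField ((Ta ∪ Tb : Finset Ω) : Set Ω)
  haveI : FiniteDimensional p.ResidueField K :=
    IntermediateField.finiteDimensional_adjoin fun x _ => (Algebra.IsAlgebraic.isAlgebraic x).isIntegral
  obtain ⟨a', rfl⟩ := hTa K (fun x hx => IntermediateField.subset_adjoin _ _ (by simp [Finset.mem_coe.1 hx]))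
  obtain ⟨b', rfl⟩ := hTb K (fun x hx => IntermediateField.subset_adjoin _ _ (by simp [Finset.mem_coe.1 hx]))
  let j := Algebra.TensorProduct.map ((K.val).restrictScalars A) (AlgHom.id A S)
  have hj : Function.Injective j :=
    Module.Flat.rTensor_preserves_injective_linearMap (M := S) ((K.val).restrictScalars A).toLinearMap
      (RingHom.injective _)
  haveI : (W.comap j.toRingHom).IsPrime := Ideal.IsPrime.comap _
  obtain ⟨w, hw, h⟩ := domAt_tensor_finite hk p K (W.comap j.toRingHom) a' b' (hj (by rw [map_mul, map_zero]; exact hab))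
  refine ⟨j w, hw, h.imp (fun h => ?_) (fun h => ?_)⟩
  · exact ((map_mul j w a').symm.trans (congrArg j h)).trans (map_zero j)
  · exact ((map_mul j w b').symm.trans (congrArg j h)).trans (map_zero j)

end

end Groth.Agent.GeomPtInt
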