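import Groth.Agent.GeomPtInt.Open
import Groth.Agent.GeomNear.ProperFlat

/-!
# Geometrically integral fibres of a proper flat morphism (EGA IV 12.2.4)
-/

set_option autoImplicit false
set_option linter.style.haveILetI false
set_option backward.isDefEq.respectTransparency false
set_option backward.isDefEq.respectTransparency.types false

universe u

open CategoryTheory Limits AlgebraicGeometry TopologicalSpace

namespace Groth.Agent.GeomPtInt

variable {X Y : Scheme.{u}} (f : X ⟶ Y)

theorem geometricallyIrreducible_fibre_iff (y : Y) :
    GeometricallyIrreducible (f.fiberToSpecResidueField y) ↔ MoreMor.nGeomIrredComp f y = 1 := by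
  rw [RGLib.ApproxCount.geometricallyIrreducible_iff]
  have hn := fun t => (Triage.GeomCount.nGeom_baseChange f (f.fiberToSpecResidueField y) (f.fiberι y)
    (Y.fromSpecResidueField y) (IsPullback.of_hasPullback _ _) t).1
  constructor
  · intro h
    have h1 := h (IsLocalRing.closedPoint (Y.residueField y))
    rw [hn, Y.fromSpecResidueField_apply] at h1
    exact h1
  · intro h t
    rw [hn, Y.fromSpecResidueField_apply]
    exact h

theorem nGeomConnComp_eq_one_of_irred (y : Y) (h : MoreMor.nGeomIrredComp f y = 1) : MoreMor.nGeomConnComp f y = 1 := by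
  refine (RGLib.ApproxCount.card_connected_eq_one_iff _).2 ?_
  haveI := (RGLib.ApproxCount.encard_components_eq_one_iff _).1 h
  infer_instance

theorem geometricallyIntegral_fibre_iff [IsProper f] (y : Y) :
    GeometricallyIntegral (f.fiberToSpecResidueField y) ↔
      y ∈ GeomNear.intLocus f ∧ MoreMor.nGeomConnComp f y = 1 := by
  constructor
  · intro h
    have h1 := (geometricallyIrreducible_fibre_iff f y).1 inferInstance
    have h2 := nGeomConnComp_eq_one_of_irred f y h1
    exact ⟨⟨show GeometricallyReduced (f.fiberToSpecResidueField y) from inferInstance, h1.trans h2.symm⟩, h2⟩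
  · rintro ⟨⟨h1, h2⟩, h3⟩
    haveI : GeometricallyReduced (f.fiberToSpecResidueField y) := h1
    haveI := (geometricallyIrreducible_fibre_iff f y).2 (h2.trans h3)
    exact GeometricallyIntegral.of_geometricallyReduced_of_geometricallyIrreducible _

theorem isOpen_geometricallyIntegral_fibre [IsProper f] [Flat f] [LocallyOfFinitePresentation f] :
    IsOpen {y : Y | GeometricallyIntegral (f.fiberToSpecResidueField y)} := by
  have h1 := isOpen_base f
  rw [GeomNear.setOf_fibre_ptIntegral_eq f] at h1
  convert h1.inter (GeomNear.isOpen_geomReduced_and_eq f 1) using 1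
  ext y
  exact ⟨fun h => ⟨((geometricallyIntegral_fibre_iff f y).1 h).1,
      ⟨((geometricallyIntegral_fibre_iff f y).1 h).1.1, ((geometricallyIntegral_fibre_iff f y).1 h).2⟩⟩,
    fun ⟨ha, _, hb⟩ => (geometricallyIntegral_fibre_iff f y).2 ⟨ha, hb⟩⟩

end Groth.Agent.GeomPtInt
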