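import Groth.Prelude.Def_FDesc
import Groth.Agent.GeomPtInt.Alg
import Groth.Agent.GeomRedFlat5.Inv
import Groth.Agent.H23.FinCondSch
import Groth.Agent.GeomRedFlat5.Generic
import Groth.Agent.S4630
import Groth.Agent.S4631
import Mathlib

/-!
# Geometric pointwise integrality of the fibres: invariance, openness inside a fibre
-/

set_option autoImplicit false
set_option linter.style.haveILetI false
set_option backward.isDefEq.respectTransparency false
set_option backward.isDefEq.respectTransparency.types false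

universe u

open CategoryTheory Limits AlgebraicGeometry Groth.Agent.GeomRedFlat5

namespace Groth.Agent.GeomPtInt

variable {X Y : Scheme.{u}}

/-- The fibre of `f` through `x` is geometrically pointwise integral at `x`. -/
abbrev P (f : X ⟶ Y) (x : X) : Prop :=
  FBase.IsGeomPtIntegralAt (f.fiberToSpecResidueField (f.base x)) (f.asFiber x)

theorem isDomain_of_bijective {R R' : CommRingCat.{u}} (φ : R ⟶ R') (h : Function.Bijective φ.hom) :
    IsDomain R ↔ IsDomain R' :=
  ⟨fun _ => (RingEquiv.ofBijective φ.hom h).symm.toMulEquiv.isDomain R,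
    fun _ => (RingEquiv.ofBijective φ.hom h).toMulEquiv.isDomain R'⟩

theorem isDomain_stalk_iff_of_iso {Z W : Scheme.{u}} (e : Z ⟶ W) [IsIso e] (z : Z) :
    IsDomain (W.presheaf.stalk (e.base z)) ↔ IsDomain (Z.presheaf.stalk z) :=
  isDomain_of_bijective (e.stalkMap z) (ConcreteCategory.bijective_of_isIso _)

theorem isDomain_pullback_residue {f : X ⟶ Y} {x : X} (h : P f x) (K : Type u) [Field K]
    (φ : Y.residueField (f.base x) ⟶ CommRingCat.of K)
    (z : ↥(pullback f (Spec.map φ ≫ Y.fromSpecResidueField (f.base x)))) (hz : (pullback.fst f _).base z = x) :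
    IsDomain ((pullback f (Spec.map φ ≫ Y.fromSpecResidueField (f.base x))).presheaf.stalk z) := by
  letI : Algebra (IsLocalRing.ResidueField (Y.presheaf.stalk (f.base x))) K := φ.hom.toAlgebra
  obtain ⟨e, he⟩ := exists_bcIso f (f.base x) φ rfl
  obtain ⟨v, rfl⟩ : ∃ v, e.hom.base v = z := e.hom.homeomorph.surjective z
  rw [isDomain_stalk_iff_of_iso]
  refine h K v ((f.fiberι (f.base x)).isEmbedding.injective ?_)
  rw [Scheme.Hom.fiberι_asFiber, ← Scheme.Hom.comp_apply, ← he, Scheme.Hom.comp_apply]
  exact hz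

theorem isDomain_pullback_field {f : X ⟶ Y} {x : X} (h : P f x) {K : Type u} [Field K]
    (g : Spec (CommRingCat.of K) ⟶ Y) (z : ↥(pullback f g)) (hz : (pullback.fst f g).base z = x) :
    IsDomain ((pullback f g).presheaf.stalk z) := by
  obtain ⟨φ, rfl⟩ := exists_factor_field g (base_closedPoint_eq f g z hz)
  exact isDomain_pullback_residue h K φ z hz

theorem P_of_isDomain {f : X ⟶ Y} {x : X} {K : Type u} [Field K] [IsAlgClosed K]
    (g : Spec (CommRingCat.of K) ⟶ Y) (z : ↥(pullback f g)) (hz : (pullback.fst f g).base z = x)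
    (h : IsDomain ((pullback f g).presheaf.stalk z)) : P f x := by
  obtain ⟨φ, rfl⟩ := exists_factor_field g (base_closedPoint_eq f g z hz)
  letI : Algebra (IsLocalRing.ResidueField (Y.presheaf.stalk (f.base x))) K := φ.hom.toAlgebra
  obtain ⟨e, he⟩ := exists_bcIso f (f.base x) φ rfl
  obtain ⟨v, rfl⟩ : ∃ v, e.hom.base v = z := e.hom.homeomorph.surjective z
  rw [isDomain_stalk_iff_of_iso] at h
  have hv : (FBase.bcπ (f.fiberToSpecResidueField (f.base x)) K).base v = f.asFiber x := by
    refine (f.fiberι (f.base x)).isEmbedding.injective ?_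
    rw [Scheme.Hom.fiberι_asFiber, ← Scheme.Hom.comp_apply, ← he, Scheme.Hom.comp_apply]
    exact hz
  show FBase.IsGeomPtIntegralAt _ (f.asFiber x)
  rw [← hv]
  exact (S4630.result _ v).2 ((S4631.result _ v).2 h)

/-- An algebraically closed point over the image, with a point above. -/
theorem exists_algClosed_point (f : X ⟶ Y) (x : X) :
    ∃ (Ω : Type u) (_ : Field Ω) (_ : IsAlgClosed Ω) (g : Spec (CommRingCat.of Ω) ⟶ Y) (z : ↥(pullback f g)),
      (pullback.fst f g).base z = x := by
  let Ω := AlgebraicClosure (IsLocalRing.ResidueField (Y.presheaf.stalk (f x)))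
  let φ : Y.residueField (f x) ⟶ CommRingCat.of Ω :=
    CommRingCat.ofHom (algebraMap (IsLocalRing.ResidueField (Y.presheaf.stalk (f x))) Ω)
  obtain ⟨z, hz⟩ := GeomRedFlat5.exists_point f x Ω φ
  exact ⟨Ω, inferInstance, inferInstance, _, z, hz⟩

/-- Invariance under base change. -/
theorem P_iff_of_isPullback {X' Y' : Scheme.{u}} {f : X ⟶ Y} {p : X' ⟶ X} {q : X' ⟶ Y'} {g : Y' ⟶ Y}
    (h : IsPullback p q f g) (z : X') : P q z ↔ P f (p.base z) := by
  obtain ⟨Ω, _, _, γ, v, hv⟩ := exists_algClosed_point q z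
  let sq := (IsPullback.of_hasPullback q γ).paste_horiz h
  have hev : (pullback.fst f (γ ≫ g)).base (sq.isoPullback.hom.base v) = p z := by
    rw [← Scheme.Hom.comp_apply, sq.isoPullback_hom_fst, Scheme.Hom.comp_apply, hv]
  constructor
  · intro hq
    refine P_of_isDomain (γ ≫ g) _ hev ?_
    rw [isDomain_stalk_iff_of_iso]
    exact isDomain_pullback_field hq γ v hv
  · intro hf
    refine P_of_isDomain γ v hv ?_
    rw [← isDomain_stalk_iff_of_iso sq.isoPullback.hom]
    exact isDomain_pullback_field hf (γ ≫ g) _ hev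

/-- Open immersions on the source. -/
theorem P_comp_openImmersion {U : Scheme.{u}} (j : U ⟶ X) [IsOpenImmersion j] (f : X ⟶ Y) (u : U) :
    P (j ≫ f) u ↔ P f (j.base u) := by
  obtain ⟨Ω, _, _, g, v, hv⟩ := exists_algClosed_point (j ≫ f) u
  let m : pullback (j ≫ f) g ⟶ pullback f g :=
    (pullbackRightPullbackFstIso f g j).inv ≫ pullback.snd j (pullback.fst f g)
  haveI : IsOpenImmersion m := inferInstance
  have hm : m ≫ pullback.fst f g = pullback.fst (j ≫ f) g ≫ j := by
    simp only [m, Category.assoc]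
    rw [← pullback.condition, pullbackRightPullbackFstIso_inv_fst_assoc]
  have hmv : (pullback.fst f g).base (m.base v) = j u := by
    refine (Scheme.Hom.comp_apply m _ v).symm.trans ((congrArg (fun m' : _ ⟶ X => m'.base v) hm).trans ?_)
    exact congrArg j.base hv
  have hiff := isDomain_of_bijective (m.stalkMap v) (ConcreteCategory.bijective_of_isIso _)
  exact ⟨fun h => P_of_isDomain g (m.base v) hmv (hiff.2 (isDomain_pullback_field h g v hv)),
    fun h => P_of_isDomain g v hv (hiff.1 (isDomain_pullback_field h g _ hmv))⟩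

theorem P_fiberι_iff (f : X ⟶ Y) (s : Y) (z : ↥(f.fiber s)) :
    FBase.IsGeomPtIntegralAt (f.fiberToSpecResidueField s) z ↔ P f ((f.fiberι s).base z) := by
  have key : ∀ (s : Y) (a : X) (w : ↥(f.fiber s)), f.fiberι s w = a → f a = s →
      (FBase.IsGeomPtIntegralAt (f.fiberToSpecResidueField s) w ↔ P f a) := by
    rintro s a w hw rfl
    obtain rfl : f.asFiber a = w := (f.fiberι (f a)).isEmbedding.injective ((f.fiberι_asFiber a).trans hw.symm)
    exact Iff.rfl
  have hs : f (f.fiberι s z) = s := by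
    have hr : f.fiberι s z ∈ Set.range (f.fiberι s) := ⟨z, rfl⟩
    rw [Scheme.Hom.range_fiberι] at hr
    exact hr
  exact key s _ z rfl hs

/-- The points with integral local rings are open. -/
theorem isOpen_isDomain_stalk (Z : Scheme.{u}) [IsLocallyNoetherian Z] :
    IsOpen {z : Z | IsDomain (Z.presheaf.stalk z)} := by
  refine isOpen_iff_forall_mem_open.2 fun z (hz : IsDomain (Z.presheaf.stalk z)) => ?_
  obtain ⟨U, hzU, hU⟩ := H23.FinCondSch.exists_integral_nhd z
  refine ⟨U, fun w hw => ?_, U.2, hzU⟩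
  exact (isDomain_stalk_iff_of_iso' U ⟨w, hw⟩).2 inferInstance
where
  isDomain_stalk_iff_of_iso' {Z : Scheme.{u}} (U : Z.Opens) (w : U) :
      IsDomain (Z.presheaf.stalk w.1) ↔ IsDomain ((U : Scheme.{u}).presheaf.stalk w) :=
    isDomain_of_bijective (U.ι.stalkMap w) (ConcreteCategory.bijective_of_isIso _)

/-- The geometrically pointwise integral points of a scheme of finite type over a field form an open set. -/
theorem isOpen_geomPtIntegral {k : Type u} [Field k] {Z : Scheme.{u}} (f : Z ⟶ Spec (CommRingCat.of k))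
    [LocallyOfFiniteType f] : IsOpen {z : Z | FBase.IsGeomPtIntegralAt f z} := by
  let Ω := AlgebraicClosure k
  haveI : LocallyOfFiniteType (FBase.bcStr f Ω) := MorphismProperty.pullback_snd _ _ ‹_›
  haveI : IsLocallyNoetherian (FBase.bc f Ω) := LocallyOfFiniteType.isLocallyNoetherian (FBase.bcStr f Ω)
  haveI : IsIntegralHom (Spec.map (CommRingCat.ofHom (algebraMap k Ω))) := by
    rw [IsIntegralHom.SpecMap_iff]
    exact (Algebra.IsAlgebraic.isIntegral : Algebra.IsIntegral k Ω).isIntegral
  haveI : IsIntegralHom (FBase.bcπ f Ω) := MorphismProperty.pullback_fst _ _ ‹_›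
  have hcl := (FBase.bcπ f Ω).isClosedMap _ (isOpen_isDomain_stalk (FBase.bc f Ω)).isClosed_compl
  convert hcl.isOpen_compl using 1
  ext z
  constructor
  · rintro hz ⟨v, hv, rfl⟩
    exact hv ((S4631.result _ v).1 ((S4630.result f v).1 hz))
  · intro hz
    obtain ⟨v, rfl⟩ := (FBaseLib.surjective_bcπ f Ω).surj z
    exact (S4630.result f v).2 ((S4631.result _ v).2 (by_contra fun hv => hz ⟨v, hv, rfl⟩))

end Groth.Agent.GeomPtInt
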