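import Groth.Agent.GeomPtInt.Inv
import Groth.Agent.GeomRedFlat5.Open
import Groth.Agent.GeomNear.PtIntegral
import Groth.Agent.FlatMisc.GenFlat
import Groth.Agent.FlatDvrVC5.SchemePoint
import Groth.Agent.ConsPropLib.Noetherian
import Groth.Agent.ConsPropLib.Loci
import Groth.Agent.ProConsLib.Basic
import Groth.Agent.RegLoc6.Open
import Groth.Agent.SrcDescent.FlatModelAlg
import Groth.Agent.H23.RedSub
import Mathlib

/-!
# The locus of geometric pointwise integrality of the fibres (EGA IV 9.9.4, 12.1.1)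
-/

set_option autoImplicit false
set_option linter.style.haveILetI false
set_option backward.isDefEq.respectTransparency false
set_option backward.isDefEq.respectTransparency.types false
set_option maxHeartbeats 1000000

universe u

open CategoryTheory Limits AlgebraicGeometry TensorProduct Topology TopologicalSpace Groth.Agent.GeomRedFlat5

namespace Groth.Agent.GeomPtInt

theorem isDomain_localization_of_stalk {R : CommRingCat.{u}} (Q : PrimeSpectrum R) :
    IsDomain ((Spec R).presheaf.stalk Q) ↔ IsDomain (Localization.AtPrime Q.asIdeal) :=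
  isDomain_of_bijective (Spec.stalkIso R Q).hom (ConcreteCategory.bijective_of_isIso _)

/-- The hypothesis on the closed fibre, from the scheme. -/
theorem closedDom_of_P {X Y : Scheme.{u}} (f : X ⟶ Y) (x : X)
    [Algebra (Y.presheaf.stalk (f.base x)) (X.presheaf.stalk x)]
    (hS : algebraMap (Y.presheaf.stalk (f.base x)) (X.presheaf.stalk x) = (f.stalkMap x).hom) (hP : P f x) :
    ClosedDom (Y.presheaf.stalk (f.base x)) (X.presheaf.stalk x) := by
  intro K _ _ hK Q hQp hQ
  obtain ⟨n, hn1, hn2, hnf, -, -⟩ := FlatDvrVC5.exists_lift f x hS K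
  haveI := hn1
  haveI := hn2
  let Q' : ↥(Spec (CommRingCat.of (K ⊗[Y.presheaf.stalk (f.base x)] X.presheaf.stalk x))) := (⟨Q, hQp⟩ : PrimeSpectrum _)
  have hv : (pullback.fst f _).base (n.base Q') = x := by
    refine ((Scheme.Hom.comp_apply n _ Q').symm.trans (congrArg (fun m : _ ⟶ X => m.base Q') hnf)).trans ?_
    refine (Scheme.Hom.comp_apply _ _ Q').trans ?_
    have h1 : PrimeSpectrum.comap (Algebra.TensorProduct.includeRight :
        X.presheaf.stalk x →ₐ[Y.presheaf.stalk (f.base x)] _).toRingHom Q' = IsLocalRing.closedPoint (X.presheaf.stalk x) :=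
      PrimeSpectrum.ext hQ
    exact (congrArg (X.fromSpecStalk x).base h1).trans X.fromSpecStalk_closedPoint
  have hd := isDomain_pullback_field hP _ (n.base Q') hv
  rw [isDomain_of_bijective (n.stalkMap Q') (AssLib.bijective_stalkMap n Q'), isDomain_localization_of_stalk] at hd
  haveI := hQp
  exact (domAt_iff_isDomain Q).2 hd

/-- The locus is stable under generization at points of flatness. -/
theorem P_of_specializes {X Y : Scheme.{u}} (f : X ⟶ Y) [LocallyOfFiniteType f] {x x' : X} (h : x' ⤳ x)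
    [IsNoetherianRing (Y.presheaf.stalk (f.base x))] (hflat : (f.stalkMap x).hom.Flat) (hP : P f x) : P f x' := by
  letI : Algebra (Y.presheaf.stalk (f.base x)) (X.presheaf.stalk x) := (f.stalkMap x).hom.toAlgebra
  haveI : IsLocalHom (algebraMap (Y.presheaf.stalk (f.base x)) (X.presheaf.stalk x)) :=
    inferInstanceAs (IsLocalHom (f.stalkMap x).hom)
  haveI : Algebra.EssFiniteType (Y.presheaf.stalk (f.base x)) (X.presheaf.stalk x) := by
    rw [← RingHom.essFiniteType_algebraMap]; exact LocallyOfFiniteType.stalkMap f x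
  haveI : Module.Flat (Y.presheaf.stalk (f.base x)) (X.presheaf.stalk x) := hflat
  obtain ⟨p₀, hp₀⟩ : f x' ∈ Set.range (Y.fromSpecStalk (f.base x)) := by
    rw [Scheme.range_fromSpecStalk]
    exact h.map f.continuous
  let p : PrimeSpectrum (Y.presheaf.stalk (f.base x)) := p₀
  let Ω := AlgebraicClosure p.asIdeal.ResidueField
  let ψ := CommRingCat.ofHom (algebraMap (Y.presheaf.stalk (f.base x)) Ω)
  let g := Spec.map ψ ≫ Y.fromSpecStalk (f.base x)
  have hg : g (IsLocalRing.closedPoint Ω) = f x' := by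
    refine (Scheme.Hom.comp_apply _ _ _).trans ((congrArg (Y.fromSpecStalk (f.base x)).base ?_).trans hp₀)
    refine PrimeSpectrum.ext (Ideal.ext fun a => ?_)
    show algebraMap _ Ω a ∈ IsLocalRing.maximalIdeal Ω ↔ a ∈ p.asIdeal
    rw [IsLocalRing.maximalIdeal_eq_bot, Ideal.mem_bot,
      IsScalarTower.algebraMap_apply _ p.asIdeal.ResidueField Ω, map_eq_zero, Ideal.algebraMap_residueField_eq_zero]
  obtain ⟨v, hv, -⟩ := Scheme.Pullback.exists_preimage_pullback (f := f) (g := g) x' (IsLocalRing.closedPoint Ω) hg.symm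
  refine P_of_isDomain g v hv ?_
  obtain ⟨n, hn1, hn2, -, -, hsurj⟩ := FlatDvrVC5.exists_lift f x rfl Ω
  haveI := hn1
  haveI := hn2
  obtain ⟨W, rfl⟩ := hsurj v (by
    rw [Scheme.range_fromSpecStalk]
    exact (specializes_of_eq hv).trans h)
  rw [isDomain_of_bijective (n.stalkMap W) (AssLib.bijective_stalkMap n W), isDomain_localization_of_stalk]
  let W' : PrimeSpectrum (Ω ⊗[Y.presheaf.stalk (f.base x)] X.presheaf.stalk x) := W
  exact (domAt_iff_isDomain W'.asIdeal).1
    (domAt_tensor_algebraic (closedDom_of_P f x rfl hP) p.asIdeal Ω W'.asIdeal)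

/-- Near a point of the locus, along the closure of its image. -/
theorem exists_nhd_over_closure {X Y : Scheme.{u}} [IsNoetherian Y] (f : X ⟶ Y) [LocallyOfFiniteType f] (x : X)
    (hP : P f x) : ∃ O : Set X, IsOpen O ∧ x ∈ O ∧ ∀ x' ∈ O, f x' ∈ closure {f x} → P f x' := by
  obtain ⟨U₀, hU₀, hU₀'⟩ := (f.fiberι (f x)).isEmbedding.isInducing.isOpen_iff.1
    (isOpen_geomPtIntegral (k := Y.residueField (f x)) (f.fiberToSpecResidueField (f x)))
  have hxU₀ : x ∈ U₀ := by
    have : f.asFiber x ∈ f.fiberι (f x) ⁻¹' U₀ := hU₀'.symm ▸ hP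
    simpa [Scheme.Hom.fiberι_asFiber] using this
  obtain ⟨U, hU, hxU, hUU₀⟩ := exists_isAffineOpen_mem_and_subset (U := ⟨U₀, hU₀⟩) (x := x) hxU₀
  haveI : IsAffine (U : Scheme.{u}) := hU
  let h := U.ι ≫ f
  haveI : QuasiCompact h := quasiCompact_of_compactSpace _
  have hmem : ∀ w, w ∈ GeomNear.intLocus h ↔ ∀ u : U, h u = w → P h u := by
    intro w
    rw [← GeomNear.setOf_fibre_ptIntegral_eq h]
    constructor
    · rintro hw u rfl
      exact hw (h.asFiber u)
    · intro hw z
      refine (P_fiberι_iff h w z).2 (hw _ ?_)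
      have hr : h.fiberι w z ∈ Set.range (h.fiberι w) := ⟨z, rfl⟩
      rw [Scheme.Hom.range_fiberι] at hr
      exact hr
  have hs : f x ∈ GeomNear.intLocus h := by
    refine (hmem _).2 fun u hu => (P_comp_openImmersion U.ι f u).2 ?_
    have hfu : f u.1 = f x := by rw [← hu]; exact (Scheme.Hom.comp_apply U.ι f u).symm
    obtain ⟨z, hz⟩ : u.1 ∈ Set.range (f.fiberι (f x)) := by
      rw [Scheme.Hom.range_fiberι]; exact hfu
    show P f u.1
    rw [← hz]
    refine (P_fiberι_iff f (f x) z).1 (hU₀'.le ?_)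
    show f.fiberι (f x) z ∈ U₀
    rw [hz]
    exact hUU₀ u.2
  let D : Set Y := closure {f x} ∩ (GeomNear.intLocus h)ᶜ
  have hD : IsConstructible D := by
    refine IsConstructible.inter ?_ (GeomNear.isConstructible_intLocus h).compl
    rw [← isConstructible_compl]
    exact (show IsRetrocompact (closure {f x})ᶜ from fun _ _ _ => NoetherianSpace.isCompact _).isConstructible
      isClosed_closure.isOpen_compl
  refine ⟨U ∩ f ⁻¹' (closure D)ᶜ, U.2.inter (isClosed_closure.isOpen_compl.preimage f.continuous), ⟨hxU, ?_⟩, ?_⟩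
  · intro hcl
    haveI : SpectralSpace ↥Y := { }
    obtain ⟨z, hz, hzs⟩ := (ProConsLib.consClosed_of_isConstructible hD).exists_specializes_of_mem_closure hcl
    exact hz.2 (by rwa [hzs.antisymm (specializes_iff_mem_closure.2 hz.1) |>.eq])
  · rintro x' ⟨hx'U, hx'D⟩ hcl
    have h1 : f x' ∈ GeomNear.intLocus h := by_contra fun hn => hx'D (subset_closure ⟨hcl, hn⟩)
    exact (P_comp_openImmersion U.ι f ⟨x', hx'U⟩).1 ((hmem _).1 h1 ⟨x', hx'U⟩ (Scheme.Hom.comp_apply U.ι f _))

theorem P_chart {X Y : Scheme.{u}} (f : X ⟶ Y) {A B : CommRingCat.{u}} (φ : A ⟶ B) (j : Spec B ⟶ X)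
    [IsOpenImmersion j] (i : Spec A ⟶ Y) [IsOpenImmersion i] (h : j ≫ f = Spec.map φ ≫ i) (q : Spec B) :
    P f (j.base q) ↔ P (Spec.map φ) q := by
  rw [← P_comp_openImmersion j f q, h]
  have hm : IsPullback (𝟙 (Spec B)) (Spec.map φ) (Spec.map φ ≫ i) i :=
    IsPullback.mk ⟨by simp⟩ ⟨PullbackCone.IsLimit.mk _
      (fun s => s.fst) (fun s => by simp) (fun s => (cancel_mono i).1 (by rw [Category.assoc]; exact s.condition))
      (fun s m h1 _ => by simpa using h1)⟩
  exact ((P_iff_of_isPullback hm q).trans Iff.rfl).symm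

/-- Openness over a Noetherian ring. -/
theorem isOpen_Spec_noetherian {A B : CommRingCat.{u}} (φ : A ⟶ B) [IsNoetherianRing A] (hφ : φ.hom.FiniteType) :
    IsOpen {q : Spec B | ((Spec.map φ).stalkMap q).hom.Flat ∧ P (Spec.map φ) q} := by
  haveI : LocallyOfFiniteType (Spec.map φ) := (HasRingHomProperty.Spec_iff (P := @LocallyOfFiniteType)).2 hφ
  haveI : LocallyOfFinitePresentation (Spec.map φ) :=
    (HasRingHomProperty.Spec_iff (P := @LocallyOfFinitePresentation)).2 (RingHom.FinitePresentation.of_finiteType.1 hφ)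
  haveI : IsNoetherianRing B := by
    letI := φ.hom.toAlgebra
    haveI : Algebra.FiniteType A B := hφ
    exact Algebra.FiniteType.isNoetherianRing A B
  haveI : IsNoetherian (Spec A) := {}
  have hflat := FlatLocus.isOpen_flat_locus (Spec.map φ)
  refine RegLoc6.isOpen_of_forall_generic (A := B)
    {q : PrimeSpectrum B | ((Spec.map φ).stalkMap q).hom.Flat ∧ P (Spec.map φ) q} ?_ ?_
  · intro x y hxy hy
    have h : (x : Spec B) ⤳ (y : Spec B) := (PrimeSpectrum.le_iff_specializes x y).1 hxy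
    exact ⟨hflat.stableUnderGeneralization h hy.1, P_of_specializes _ h hy.1 hy.2⟩
  · rintro x ⟨hx₁, hx₂⟩
    obtain ⟨O, hO, hxO, hOP⟩ := exists_nhd_over_closure (Spec.map φ) x hx₂
    obtain ⟨_, ⟨g, rfl⟩, hg, hgO⟩ :=
      PrimeSpectrum.isTopologicalBasis_basic_opens.exists_subset_of_mem_open (a := x)
        (show x ∈ O ∩ _ from ⟨hxO, hx₁⟩) (hO.inter hflat)
    refine ⟨g, hg, fun y hxy hy => ⟨(hgO hy).2, hOP y (hgO hy).1 ?_⟩⟩
    exact specializes_iff_mem_closure.1
      (((PrimeSpectrum.le_iff_specializes x y).1 hxy).map (Spec.map φ).continuous)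

/-- Openness over a Noetherian base. -/
theorem isOpen_noetherian {X Y : Scheme.{u}} [IsLocallyNoetherian Y] (f : X ⟶ Y) [LocallyOfFiniteType f] [Flat f] :
    IsOpen {x : X | P f x} := by
  rw [isOpen_iff_forall_mem_open]
  intro x hx
  obtain ⟨V, hV, hxV, -⟩ := exists_isAffineOpen_mem_and_subset (U := (⊤ : Y.Opens)) (x := f x) trivial
  obtain ⟨U, hU, hxU, hUV⟩ := exists_isAffineOpen_mem_and_subset (U := f ⁻¹ᵁ V) (x := x) hxV
  haveI : IsNoetherianRing Γ(Y, V) := IsLocallyNoetherian.component_noetherian ⟨V, hV⟩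
  have hsq : hU.fromSpec ≫ f = Spec.map (f.appLE V U hUV) ≫ hV.fromSpec := (hV.SpecMap_appLE_fromSpec f hU hUV).symm
  have hopen : IsOpen (hU.fromSpec ⁻¹' {x : X | P f x}) := by
    convert! isOpen_Spec_noetherian (f.appLE V U hUV) (f.finiteType_appLE hV hU hUV) using 1
    ext q
    exact ⟨fun h => ⟨(flat_chart f _ _ _ hsq q).1 (Flat.stalkMap f _), (P_chart f _ _ _ hsq q).1 h⟩,
      fun h => (P_chart f _ _ _ hsq q).2 h.2⟩
  refine ⟨hU.fromSpec '' (hU.fromSpec ⁻¹' {x : X | P f x}),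
    Set.image_preimage_subset _ _, hU.fromSpec.isOpenEmbedding.isOpenMap _ hopen, ?_⟩
  obtain ⟨q, rfl⟩ : x ∈ Set.range hU.fromSpec := by rw [hU.range_fromSpec]; exact hxU
  exact ⟨q, hx, rfl⟩

theorem isOpen_Spec_flat {A B : Type u} [CommRing A] [CommRing B] [Algebra A B] [Algebra.FinitePresentation A B]
    [Module.Flat A B] : IsOpen {q : Spec (CommRingCat.of B) | P (Spec.map (CommRingCat.ofHom (algebraMap A B))) q} := by
  obtain ⟨A₁, B₁, _, _, hA₁, hfl, hfp, ⟨e⟩⟩ := SrcDescent.exists_flat_model A B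
  haveI : Algebra.FiniteType ℤ A₁ := (Subalgebra.fg_iff_finiteType A₁).1 hA₁
  haveI : IsNoetherianRing (CommRingCat.of A₁) := Algebra.FiniteType.isNoetherianRing ℤ A₁
  have sq := isPullback_model e
  let φ₁ := CommRingCat.ofHom (algebraMap A₁ B₁)
  haveI : Flat (Spec.map φ₁) := (HasRingHomProperty.Spec_iff (P := @Flat)).2 (RingHom.flat_algebraMap_iff.2 hfl)
  haveI : LocallyOfFiniteType (Spec.map φ₁) :=
    (HasRingHomProperty.Spec_iff (P := @LocallyOfFiniteType)).2 (RingHom.finiteType_algebraMap.2 inferInstance)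
  have hopen := isOpen_noetherian (Spec.map φ₁)
  convert! hopen.preimage (Spec.map (CommRingCat.ofHom (S := B)
        (e.symm.toRingEquiv.toRingHom.comp (Algebra.TensorProduct.includeRight : B₁ →ₐ[A₁] A ⊗[A₁] B₁).toRingHom))).continuous
    using 1
  ext q
  exact P_iff_of_isPullback sq q

/-- Openness for flat morphisms locally of finite presentation. -/
theorem isOpen_P {X Y : Scheme.{u}} (f : X ⟶ Y) [LocallyOfFinitePresentation f] [Flat f] :
    IsOpen {x : X | P f x} := by
  rw [isOpen_iff_forall_mem_open]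
  intro x hx
  obtain ⟨V, hV, hxV, -⟩ := exists_isAffineOpen_mem_and_subset (U := (⊤ : Y.Opens)) (x := f x) trivial
  obtain ⟨U, hU, hxU, hUV⟩ := exists_isAffineOpen_mem_and_subset (U := f ⁻¹ᵁ V) (x := x) hxV
  have hsq : hU.fromSpec ≫ f = Spec.map (f.appLE V U hUV) ≫ hV.fromSpec := (hV.SpecMap_appLE_fromSpec f hU hUV).symm
  letI : Algebra Γ(Y, V) Γ(X, U) := (f.appLE V U hUV).hom.toAlgebra
  haveI : Algebra.FinitePresentation Γ(Y, V) Γ(X, U) := f.finitePresentation_appLE hV hU hUV
  haveI : Flat (Spec.map (f.appLE V U hUV)) :=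
    (Flat.iff_flat_stalkMap _).2 fun q => (flat_chart f _ _ _ hsq q).1 (Flat.stalkMap f _)
  haveI : Module.Flat Γ(Y, V) Γ(X, U) := (HasRingHomProperty.Spec_iff (P := @Flat)).1 ‹_›
  have hopen : IsOpen (hU.fromSpec ⁻¹' {x : X | P f x}) := by
    convert! isOpen_Spec_flat (A := Γ(Y, V)) (B := Γ(X, U)) using 1
    ext q
    exact P_chart f _ _ _ hsq q
  refine ⟨hU.fromSpec '' (hU.fromSpec ⁻¹' {x : X | P f x}),
    Set.image_preimage_subset _ _, hU.fromSpec.isOpenEmbedding.isOpenMap _ hopen, ?_⟩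
  obtain ⟨q, rfl⟩ : x ∈ Set.range hU.fromSpec := by rw [hU.range_fromSpec]; exact hxU
  exact ⟨q, hx, rfl⟩

theorem isConstructible_noetherian {X S : Scheme.{u}} [IsNoetherian X] [IsNoetherian S] (f : X ⟶ S)
    [LocallyOfFiniteType f] : IsConstructible {x : X | P f x} := by
  refine ConsPropLib.isConstructible_of_dichotomy _ fun T j _ _ _ => ?_
  obtain ⟨TS, jS, _, _, hr, hgen⟩ := ConsPropLib.exists_integral_closure (f (j (genericPoint T)))
  haveI : IsLocallyNoetherian TS := LocallyOfFiniteType.isLocallyNoetherian jS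
  haveI : CompactSpace TS := QuasiCompact.compactSpace_of_compactSpace jS
  haveI : IsNoetherian TS := {}
  have sub : Set.range (j ≫ f) ⊆ Set.range jS := by
    rw [hr]
    rintro _ ⟨t, rfl⟩
    exact specializes_iff_mem_closure.1 ((genericPoint_specializes t).map (j ≫ f).continuous)
  obtain ⟨a, ha⟩ := H23.RedSub.exists_lift_closed (j ≫ f) jS sub
  let l : T ⟶ pullback f jS := pullback.lift j a ha.symm
  let p := pullback.fst f jS
  let f₁ := pullback.snd f jS
  haveI : CompactSpace (pullback f jS : Scheme.{u}) := QuasiCompact.compactSpace_of_compactSpace p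
  haveI : QuasiCompact f₁ := quasiCompact_of_compactSpace _
  obtain ⟨W, hWne, -, hflat, -⟩ := FlatMisc.exists_flat_open f₁ ⊤ ⟨genericPoint TS, trivial⟩
  haveI := hflat
  have hηW : genericPoint TS ∈ W := ((genericPoint_spec TS).mem_open_set_iff W.2).2 (by simpa using hWne)
  have hopen := (f₁ ⁻¹ᵁ W).ι.isOpenEmbedding.isOpenMap _ (isOpen_noetherian (f₁ ∣_ W))
  have hlp : ∀ t, p (l t) = j t := fun t => by
    rw [← Scheme.Hom.comp_apply]
    exact congrArg (fun φ : T ⟶ X => φ t) (pullback.lift_fst _ _ _)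
  have hgU : l (genericPoint T) ∈ f₁ ⁻¹ᵁ W := by
    show f₁ (l (genericPoint T)) ∈ W
    convert hηW using 1
    refine jS.isEmbedding.injective ?_
    rw [hgen, ← hlp, ← Scheme.Hom.comp_apply, ← Scheme.Hom.comp_apply, ← pullback.condition]
    rfl
  have key : ∀ t (ht : l t ∈ f₁ ⁻¹ᵁ W), P f (j t) ↔ P (f₁ ∣_ W) ⟨l t, ht⟩ := fun t ht => by
    have h1 := P_iff_of_isPullback (IsPullback.of_hasPullback f jS) (l t)
    have h2 := P_iff_of_isPullback (isPullback_morphismRestrict f₁ W).flip (⟨l t, ht⟩ : (f₁ ⁻¹ᵁ W : Scheme.{u}))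
    rw [← hlp]
    exact h1.symm.trans h2.symm
  let A : Set T := l ⁻¹' ((f₁ ⁻¹ᵁ W).ι '' {z | P (f₁ ∣_ W) z})
  have hA : IsOpen A := hopen.preimage l.continuous
  by_cases hg : genericPoint T ∈ A
  · refine Or.inl ⟨genericPoint T, interior_maximal (fun t ht => ?_) hA hg⟩
    obtain ⟨z, hz, hzt⟩ := ht
    have ht : l t ∈ f₁ ⁻¹ᵁ W := hzt ▸ z.2
    obtain rfl : z = ⟨l t, ht⟩ := Subtype.ext hzt
    exact (key t ht).2 hz
  · have hsub : l ⁻¹' (f₁ ⁻¹ᵁ W : Set _) ⊆ (j ⁻¹' {x | P f x})ᶜ := fun t ht hP =>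
      hg ((genericPoint_specializes t).mem_open hA ⟨⟨l t, ht⟩, (key t ht).1 hP, rfl⟩)
    exact Or.inr ⟨genericPoint T, interior_maximal hsub ((f₁ ⁻¹ᵁ W).2.preimage l.continuous) hgU⟩

theorem isLocallyConstructible_P {X S : Scheme.{u}} (f : X ⟶ S) [LocallyOfFinitePresentation f] :
    IsLocallyConstructible {x : X | P f x} := by
  intro x
  obtain ⟨V, hV, hxV, -⟩ := exists_isAffineOpen_mem_and_subset (U := (⊤ : S.Opens)) (x := f x) trivial
  obtain ⟨U, hU, hxU, hUV'⟩ := exists_isAffineOpen_mem_and_subset (U := f ⁻¹ᵁ V) (x := x) hxV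
  have hUV : U ≤ f ⁻¹ᵁ V := hUV'
  refine ⟨U, U.2.mem_nhds hxU, U.2, ?_⟩
  haveI : IsAffine (U : Scheme.{u}) := hU
  haveI : IsAffine (V : Scheme.{u}) := hV
  let g := f.resLE V U hUV
  obtain ⟨S₀, X₀, _, π, u₀, _, qX, _, _, _, _, _, -, -, sq, -⟩ := ConsPropLib.exists_model_pair g g
  haveI : IsLocallyNoetherian X₀ := LocallyOfFiniteType.isLocallyNoetherian u₀
  haveI : CompactSpace X₀ := QuasiCompact.compactSpace_of_compactSpace u₀
  haveI : IsNoetherian X₀ := {}
  haveI : QuasiCompact qX := MorphismProperty.of_isPullback (P := @QuasiCompact) sq.flip inferInstance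
  have h1 := qX.isConstructible_preimage (isConstructible_noetherian u₀)
  show IsConstructible (U.ι ⁻¹' {x : X | P f x} : Set (U : Scheme.{u}))
  convert h1 using 1
  ext z
  have hmono : IsPullback (𝟙 (U : Scheme.{u})) g (g ≫ V.ι) V.ι :=
    IsPullback.mk ⟨by simp⟩ ⟨PullbackCone.IsLimit.mk _
      (fun s => s.fst) (fun s => by simp) (fun s => (cancel_mono V.ι).1 (by rw [Category.assoc]; exact s.condition))
      (fun s m h1 _ => by simpa using h1)⟩
  show P f (U.ι z) ↔ P u₀ (qX z)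
  rw [← P_iff_of_isPullback sq z, ← P_comp_openImmersion U.ι f z]
  have e : U.ι ≫ f = g ≫ V.ι := (f.resLE_comp_ι hUV).symm
  rw [e]
  exact (P_iff_of_isPullback hmono z).symm

/-- The base points all whose fibre points are in the locus. -/
theorem isOpen_base {X Y : Scheme.{u}} (f : X ⟶ Y) [IsProper f] [Flat f] [LocallyOfFinitePresentation f] :
    IsOpen {y : Y | ∀ x : ↥(f.fiber y), FBase.IsGeomPtIntegralAt (f.fiberToSpecResidueField y) x} := by
  convert (f.isClosedMap _ (isOpen_P f).isClosed_compl).isOpen_compl using 1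
  ext y
  constructor
  · rintro h ⟨x, hx, rfl⟩
    exact hx (h (f.asFiber x))
  · intro h z
    refine (P_fiberι_iff f y z).2 (by_contra fun hn => h ⟨_, hn, ?_⟩)
    have hr : f.fiberι y z ∈ Set.range (f.fiberι y) := ⟨z, rfl⟩
    rw [Scheme.Hom.range_fiberι] at hr
    exact hr

end Groth.Agent.GeomPtInt
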